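import Cfsg.Agent.H326.Four.LThree

/-!
# S4816, layer (B): the elements of order three of `L₃(4)` form one class (helper302's box [b])
-/

set_option autoImplicit false

namespace Cfsg.Agent.H234.RIM.Conj

open Cfsg.Agent.SporadicA.FieldFour

universe u

/-- **[b]** all elements of order three of `L₃(4)` are conjugate -/
theorem conj_three {F : Type u} [Field F] (hF : Nat.card F = 4) (x y : Matrix.ProjectiveSpecialLinearGroup (Fin 3) F)
    (hx : orderOf x = 3) (hy : orderOf y = 3) : IsConj x y := by
  classical
  have hfin : Finite F := Nat.finite_of_card_ne_zero (by rw [hF]; norm_num)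
  have := Fintype.ofFinite F
  obtain ⟨f⟩ := nonempty_psl_equiv (n := Fin 3) F (by rw [← Nat.card_eq_fintype_card]; exact hF)
  have h1 : ∀ z : Matrix.ProjectiveSpecialLinearGroup (Fin 3) F, orderOf z = 3 → orderOf (f.symm z) = 3 :=
    fun z hz => by rw [MulEquiv.orderOf_eq, hz]
  have h2 := (H326.Four.conj_H (h1 x hx)).symm.trans (H326.Four.conj_H (h1 y hy))
  have h3 := f.toMonoidHom.map_isConj h2
  have h4 : ∀ z, f.toMonoidHom (f.symm z) = z := fun z => f.apply_symm_apply z
  rwa [h4, h4] at h3

end Cfsg.Agent.H234.RIM.Conj
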