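import Cfsg.Agent.H994.NX.Kill6
import Cfsg.Agent.H234.RIM.NormSharp

/-!
# S4816, layer (B), `q = p = 3`: `kill6`

* `sharp` : the bound of `NormSharp` for `SX`;
* `kill6 : AS r 6 3 X B → False`.
-/

set_option autoImplicit false

namespace Cfsg.Agent.H234.RIM.KillSix

open Cfsg.Agent.H20.RIM Cfsg.Agent.H586.NX

variable {p r n : ℕ} {Y U : Type*} [Group Y] [Finite Y] [AddCommGroup U] [Finite U] [DistribMulAction Y U]
  {X : Subgroup Y} {B : U → U → ZMod 2}

/-- the sharp bound -/
theorem sharp (S : SX (U := U) p r 2 n X B) : Cfsg.Agent.H994.NX.Sharp Y U n := fun _ hx _ hk hf =>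
  NormSharp.centralizer_index_le' S.faith S.exp S.card S.addl S.addr S.alt S.nd S.inv hx hk hf

/-- **`kill6`** -/
theorem kill6 (A : AS (U := U) r 6 3 X B) : False := Cfsg.Agent.H994.NX.kill6_of (sharp A.S) A

end Cfsg.Agent.H234.RIM.KillSix
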