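import Cfsg.Agent.H326.Four.LThree

/-!
# S4816, layer (B), box [e] of helper302: commuting elements of order three in `L₂(9)` and `L₃(4)`
-/

set_option autoImplicit false

namespace Cfsg.Agent.H234.RIM.Nine

open Matrix Cfsg.Agent.SporadicA.FieldFour Cfsg.Agent.ONType.Psl

/-! ### `L₃(4)` -/

theorem eE_order {i j : Fin 3} (h : i ≠ 0 ∨ j ≠ 0) : orderOf (H326.Four.eE i j) = 3 := by
  have : Fact (Nat.Prime 3) := ⟨Nat.prime_three⟩
  refine orderOf_eq_prime ?_ ?_
  · rw [pow_three, H326.Four.eE_mul, H326.Four.eE_mul]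
    have h1 : ∀ i : Fin 3, i + (i + i) = 0 := by decide
    rw [h1, h1, H326.Four.eE_zero]
  · intro h1
    rw [← H326.Four.eE_zero] at h1
    obtain ⟨rfl, rfl⟩ := H326.Four.eE_inj h1
    rcases h with h | h <;> exact h rfl

/-- two independent commuting elements of order three in `L₃(4)` -/
theorem psl_three_four {F : Type*} [Field F] (hF : Nat.card F = 4) :
    ∃ x y : ProjectiveSpecialLinearGroup (Fin 3) F, orderOf x = 3 ∧ orderOf y = 3 ∧ x * y = y * x ∧
      y ∉ Subgroup.zpowers x := by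
  classical
  have hfin : Finite F := Nat.finite_of_card_ne_zero (by rw [hF]; norm_num)
  have := Fintype.ofFinite F
  obtain ⟨f⟩ := nonempty_psl_equiv (n := Fin 3) F (by rw [← Nat.card_eq_fintype_card]; exact hF)
  refine ⟨f (H326.Four.eE 1 0), f (H326.Four.eE 0 1), ?_, ?_, ?_, ?_⟩
  · rw [MulEquiv.orderOf_eq]; exact eE_order (Or.inl (by decide))
  · rw [MulEquiv.orderOf_eq]; exact eE_order (Or.inr (by decide))
  · rw [← map_mul, ← map_mul, H326.Four.eE_mul, H326.Four.eE_mul]
    rfl
  · intro h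
    obtain ⟨k, hk⟩ := Subgroup.mem_zpowers_iff.1 h
    have h1 : (H326.Four.eE 1 0) ^ k = H326.Four.eE 0 1 := f.injective (by rw [map_zpow]; exact hk)
    have h2 : ∀ n : ℕ, ∃ i : Fin 3, (H326.Four.eE 1 0) ^ n = H326.Four.eE i 0 := by
      intro n
      induction n with
      | zero => exact ⟨0, by rw [pow_zero, H326.Four.eE_zero]⟩
      | succ n ih =>
        obtain ⟨i, hi⟩ := ih
        exact ⟨i + 1, by rw [pow_succ, hi, H326.Four.eE_mul, add_zero]⟩
    have h3 : ∃ n : ℕ, (H326.Four.eE 1 0) ^ n = H326.Four.eE 0 1 := by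
      have hf : IsOfFinOrder (H326.Four.eE 1 0) := by
        rw [← orderOf_pos_iff, eE_order (Or.inl (by decide))]; norm_num
      have h4 : H326.Four.eE 0 1 ∈ Submonoid.powers (H326.Four.eE 1 0) := by
        rw [hf.mem_powers_iff_mem_zpowers]
        exact ⟨k, h1⟩
      exact h4
    obtain ⟨n, hn⟩ := h3
    obtain ⟨i, hi⟩ := h2 n
    rw [hi] at hn
    exact absurd (H326.Four.eE_inj hn).2 (by decide)

/-! ### `L₂(9)` -/

section Two

variable {F : Type*} [Field F]

/-- transvections -/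
def tv (s : F) : SpecialLinearGroup (Fin 2) F := ⟨!![1, s; 0, 1], by rw [det_fin_two_of]; ring⟩

/-- diagonal matrices -/
def dg (a : Fˣ) : SpecialLinearGroup (Fin 2) F := ⟨!![(a : F), 0; 0, ((a⁻¹ : Fˣ) : F)], by
  rw [det_fin_two_of, mul_zero, sub_zero, Units.mul_inv]⟩

theorem tv_mul (s t : F) : tv s * tv t = tv (s + t) := by
  apply Subtype.ext
  show !![1, s; 0, 1] * !![1, t; 0, 1] = !![1, s + t; 0, 1]
  rw [Matrix.mul_fin_two]
  simp [add_comm]

theorem tv_zero : tv (0 : F) = 1 := by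
  apply Subtype.ext
  show !![1, (0 : F); 0, 1] = 1
  rw [Matrix.one_fin_two]

theorem dg_tv (a : Fˣ) (s : F) : dg a * tv s = tv (a * a * s) * dg a := by
  apply Subtype.ext
  show !![(a : F), 0; 0, ((a⁻¹ : Fˣ) : F)] * !![1, s; 0, 1] =
    !![1, a * a * s; 0, 1] * !![(a : F), 0; 0, ((a⁻¹ : Fˣ) : F)]
  rw [Matrix.mul_fin_two, Matrix.mul_fin_two]
  have h : (a : F) ≠ 0 := a.ne_zero
  simp
  field_simp

theorem tv_cen {s : F} (h : tv s ∈ Subgroup.center (SpecialLinearGroup (Fin 2) F)) : s = 0 := by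
  rw [Matrix.SpecialLinearGroup.mem_center_iff] at h
  obtain ⟨r, -, hr⟩ := h
  have h1 := congrFun (congrFun hr 0) 1
  simpa [tv] using h1.symm

/-- the projection -/
abbrev pj : SpecialLinearGroup (Fin 2) F →* ProjectiveSpecialLinearGroup (Fin 2) F := QuotientGroup.mk' _

theorem pj_tv {s t : F} (h : pj (tv s) = pj (tv t)) : s = t := by
  have h1 : pj ((tv s)⁻¹ * tv t) = 1 := by rw [map_mul, map_inv, h, inv_mul_cancel]
  have h2 : (tv s)⁻¹ = tv (-s) := by rw [inv_eq_iff_mul_eq_one, tv_mul, add_neg_cancel, tv_zero]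
  rw [h2, tv_mul] at h1
  have h3 := tv_cen ((QuotientGroup.eq_one_iff _).1 h1)
  linear_combination -h3

/-- **`L₂(9)`** -/
theorem psl_two_nine (hF : Nat.card F = 9) :
    ∃ x y t : ProjectiveSpecialLinearGroup (Fin 2) F, orderOf x = 3 ∧ orderOf y = 3 ∧ x * y = y * x ∧
      y ∉ Subgroup.zpowers x ∧ t * x * t⁻¹ = y ∧ t * y * t⁻¹ = x⁻¹ := by
  classical
  have h3 : Fact (Nat.Prime 3) := ⟨Nat.prime_three⟩
  have hfin : Finite F := Nat.finite_of_card_ne_zero (by rw [hF]; norm_num)
  have := Fintype.ofFinite F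
  have hc : (3 : F) = 0 := by
    have h1 : ((Nat.card F : ℕ) : F) = 0 := by rw [Nat.card_eq_fintype_card]; exact FiniteField.cast_card_eq_zero F
    rw [hF] at h1
    have h2 : (3 : F) * 3 = 0 := by rw [← h1]; norm_num
    rcases mul_eq_zero.1 h2 with h | h <;> exact h
  -- an element of order eight
  obtain ⟨a, ha⟩ : ∃ a : Fˣ, orderOf a = 8 := by
    obtain ⟨g, hg⟩ := IsCyclic.exists_generator (α := Fˣ)
    refine ⟨g, ?_⟩
    rw [orderOf_eq_card_of_forall_mem_zpowers hg, Nat.card_eq_fintype_card, Fintype.card_units,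
      ← Nat.card_eq_fintype_card, hF]
  have h8 : (a : F) ^ 8 = 1 := by
    rw [← Units.val_pow_eq_pow_val, ← ha, pow_orderOf_eq_one, Units.val_one]
  have h4 : (a : F) ^ 4 ≠ 1 := by
    intro h
    have h5 : a ^ 4 = 1 := Units.ext (by rw [Units.val_pow_eq_pow_val, h, Units.val_one])
    have h6 := orderOf_dvd_of_pow_eq_one h5
    rw [ha] at h6
    revert h6; decide
  have hi : (a : F) ^ 4 = -1 := by
    have h5 : ((a : F) ^ 4 - 1) * ((a : F) ^ 4 + 1) = 0 := by linear_combination h8
    rcases mul_eq_zero.1 h5 with h | h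
    · exact absurd (sub_eq_zero.1 h) h4
    · exact eq_neg_of_add_eq_zero_left h
  set i : F := a * a with hidef
  have hii : i * i = -1 := by rw [hidef, ← hi]; ring
  have h10 : (1 : F) ≠ 0 := one_ne_zero
  have h20 : (2 : F) ≠ 0 := by
    intro h
    apply h10
    linear_combination hc - h
  have hi0 : i ≠ 0 := by
    intro h
    rw [h, mul_zero] at hii
    exact h10 (by linear_combination hii)
  have horder : ∀ s : F, s ≠ 0 → orderOf (pj (tv s)) = 3 := by
    intro s hs
    refine orderOf_eq_prime ?_ ?_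
    · rw [pow_three, ← map_mul, ← map_mul, tv_mul, tv_mul]
      have : s + (s + s) = 0 := by linear_combination s * hc
      rw [this, tv_zero, map_one]
    · intro h
      apply hs
      apply pj_tv
      rw [h, tv_zero, map_one]
  have hconj : ∀ s : F, pj (dg a) * pj (tv s) * (pj (dg a))⁻¹ = pj (tv (i * s)) := by
    intro s
    rw [← map_mul, dg_tv, map_mul, mul_inv_cancel_right]
  have hinv : (pj (tv (1 : F)))⁻¹ = pj (tv (-1)) := by
    rw [inv_eq_iff_mul_eq_one, ← map_mul, tv_mul, add_neg_cancel, tv_zero, map_one]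
  refine ⟨pj (tv 1), pj (tv i), pj (dg a), horder 1 h10, horder i hi0, ?_, ?_, ?_, ?_⟩
  · rw [← map_mul, ← map_mul, tv_mul, tv_mul, add_comm]
  · intro h
    have hf : IsOfFinOrder (pj (tv (1 : F))) := by
      rw [← orderOf_pos_iff, horder 1 h10]; norm_num
    rw [← hf.mem_powers_iff_mem_zpowers] at h
    obtain ⟨n, hn⟩ := h
    have h2 : ∀ n : ℕ, (pj (tv (1 : F))) ^ n = pj (tv (n : F)) := by
      intro n
      induction n with
      | zero => rw [pow_zero, Nat.cast_zero, tv_zero, map_one]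
      | succ n ih => rw [pow_succ, ih, ← map_mul, tv_mul, Nat.cast_succ]
    have hn' : (pj (tv (1 : F))) ^ n = pj (tv i) := hn
    rw [h2] at hn'
    have hni := pj_tv hn'
    have h5 : ∀ n : ℕ, (n : F) = 0 ∨ (n : F) = 1 ∨ (n : F) = -1 := by
      intro n
      induction n with
      | zero => left; exact Nat.cast_zero
      | succ n ih =>
        rw [Nat.cast_succ]
        rcases ih with h | h | h
        · right; left; rw [h, zero_add]
        · right; right; rw [h]; linear_combination hc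
        · left; rw [h]; ring
    rcases h5 n with h | h | h
    · rw [h] at hni; exact hi0 hni.symm
    · rw [← hni, h] at hii
      apply h20
      linear_combination hii
    · rw [← hni, h] at hii
      apply h20
      linear_combination hii
  · rw [hconj, mul_one]
  · rw [hconj, hii, hinv]

end Two

end Cfsg.Agent.H234.RIM.Nine
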